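import Cfsg.Agent.H589.BD.Defs
import Cfsg.Agent.H684.CoverCount_m3
import Cfsg.Agent.H98.Lat.AlgInt
import Cfsg.Agent.H608.BrauerFeit
import Cfsg.Agent.H625.R4.Tools
import Cfsg.Agent.H116.RatB0.StB0
import Cfsg.Agent.H996.Eight.Interval
import Cfsg.Agent.S0925
import Cfsg.Agent.Blocks.CentralProduct
import Cfsg.Agent.H700.PrinExt
import Cfsg.Agent.H279.FiveAlt
import Cfsg.Agent.H597.Taketa
import Cfsg.Agent.H116.RatB0.RowRgd
import Cfsg.Agent.Blocks.Knorr
import Cfsg.Agent.H35.ExcIdxTw_m3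
import Mathlib
import Cfsg.Agent.H589.BD.Ex
import Cfsg.Agent.H55.OutGen
import Cfsg.Agent.H940.RatB.Count
import Cfsg.Agent.H139.Unipotent
import Cfsg.Agent.H116.RatB0.StExc_m3
import Cfsg.Agent.Prune
set_option linter.all false

section
prune_inst 0x7ffffff9ffabfddedfff7e3ffed9dffe33c6cfffefdffb4bffeee39fafff231639edfba51de0f8ff0e56e2f630b87853fb7eefffee6fdc7ffffdf7b41ffbee4ff5f7b78951d684240eac0fff03f07f4e6f3ffdffffffffffffffffffffffffbeffffefffffff

-- part: H726/BD/Gen
section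
prune_inst 0x1000000000000001000040000010800500080210000000000100000c021000008000000000000000000000000000000000000000000000000000000000200000001002080000000000000000000000000000041000000000000
set_option linter.all false
open scoped Cfsg.Agent.FastGrp

/-!
# S4932, S4953: a size criterion without centralizers (helper726)

`kill_gen`: `α`, `β` nontrivial characters in the principal `p`-block of the simple group `S`, `o = |Out S|`,
`4 K ≥ (o |S|)_p ^ 2 + 4`, `2 o² + 2 (o α(1))² (o |S|_p) K < β(1)²`. Then every almost simple group over `S` has at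
least four degrees in the principal block.
-/

set_option autoImplicit false
set_option linter.unusedSectionVars false

open Cfsg
open scoped ComplexConjugate commutatorElement

namespace Cfsg.Agent.H726.BD

open Cfsg.Agent.Characters Cfsg.Agent.Characters.Core Cfsg.Agent.Characters.GaloisBasic Cfsg.Agent.H616
  Cfsg.Agent.Blocks.Basic Cfsg.Agent.H589.BD

universe u

section fin

variable {G : Type u} [Group G] [Finite G]

/-- the sum of a set of characters -/
noncomputable def sm (B : Finset (IrrCharacter G)) (g : G) : ℂ := ∑ χ ∈ B, (χ : G → ℂ) g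

theorem sm_comb (B : Finset (IrrCharacter G)) (g : G) :
    sm B g = ∑ χ ∈ B, (((1 : ℚ) : ℂ)) * (χ : G → ℂ) g := by
  unfold sm
  refine Finset.sum_congr rfl fun χ _ => ?_
  rw [Rat.cast_one, one_mul]

theorem isIntegral_sm (B : Finset (IrrCharacter G)) (g : G) : IsIntegral ℤ (sm B g) :=
  IsIntegral.sum _ fun χ _ => isIntegral_apply (isIrr_isCharacter χ.2) g

theorem galFam_sm (B : Finset (IrrCharacter G)) (g : G) : GalFam (Nat.card G) fun k => sm B (g ^ k) := by
  have h1 := H98.Lat.galFam_comb (B := B) (v := fun _ => 1) (fun g => by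
    rw [← sm_comb]; exact isIntegral_sm B g) g
  have h2 : (fun k : ℕ => sm B (g ^ k)) = fun k : ℕ => ∑ χ ∈ B, ((1 : ℚ) : ℂ) * (χ : G → ℂ) (g ^ k) := by
    funext k
    exact sm_comb B _
  rw [h2]
  exact h1

/-- `∑ |F|²` over the group -/
theorem sum_norm_sm [Fintype G] (B : Finset (IrrCharacter G)) :
    ∑ g : G, ‖sm B g‖ ^ 2 = (Nat.card G : ℝ) * B.card := by
  have h1 := H703.Lat.classInner_comb (B := B) (fun _ => (1 : ℂ)) (fun _ => (1 : ℂ))
  have h2 : (fun g => ∑ χ ∈ B, (1 : ℂ) * (χ : G → ℂ) g) = sm B := by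
    funext g
    unfold sm
    simp only [one_mul]
  rw [h2] at h1
  have h3 : classInner (sm B) (sm B) = (Nat.card G : ℂ)⁻¹ * ((∑ g : G, ‖sm B g‖ ^ 2 : ℝ) : ℂ) := by
    rw [Core.classInner_def]
    congr 1
    push_cast
    refine Finset.sum_congr rfl fun g _ => ?_
    rw [Complex.mul_conj, Complex.normSq_eq_norm_sq]
    push_cast
    rfl
  rw [h3] at h1
  have hG : (Nat.card G : ℂ) ≠ 0 := card_ne_zero_complex
  simp only [map_one, mul_one, Finset.sum_const, nsmul_eq_mul] at h1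
  have h4 : ((∑ g : G, ‖sm B g‖ ^ 2 : ℝ) : ℂ) = (((Nat.card G : ℝ) * B.card : ℝ) : ℂ) := by
    rw [inv_mul_eq_iff_eq_mul₀ hG] at h1
    rw [h1]
    push_cast
    ring
  exact_mod_cast h4

/-- The arithmetic-geometric mean inequality on a set closed under Galois powers. -/
theorem card_le_sum_norm [Fintype G] (B : Finset (IrrCharacter G)) (X : Finset G)
    (hX : ∀ g ∈ X, ∀ k : ℕ, k.Coprime (Nat.card G) → g ^ k ∈ X) (h0 : ∀ g ∈ X, sm B g ≠ 0) :
    (X.card : ℝ) ≤ ∑ g ∈ X, ‖sm B g‖ ^ 2 := by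
  classical
  have hne : NeZero (Nat.card G) := ⟨Nat.card_pos.ne'⟩
  have hp : Fact (Nat.Prime 2) := ⟨Nat.prime_two⟩
  obtain ⟨M, hM⟩ := Cfsg.Agent.Blocks.Knorr.exists_isPModular 2
  have h1 : ∀ g ∈ X, (Fintype.card (ZMod (Nat.card G))ˣ : ℝ) ≤
      ∑ u : (ZMod (Nat.card G))ˣ, ‖sm B (g ^ (u : ZMod (Nat.card G)).val)‖ ^ 2 := fun g hg =>
    (galFam_sm B g).card_le_sum_one (by simpa only [pow_one] using h0 g hg) hM
  have h2 := Finset.sum_le_sum h1
  rw [Finset.sum_comm] at h2
  have h3 : ∀ u : (ZMod (Nat.card G))ˣ, ∑ g ∈ X, ‖sm B (g ^ (u : ZMod (Nat.card G)).val)‖ ^ 2 =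
      ∑ g ∈ X, ‖sm B g‖ ^ 2 := by
    intro u
    have hinj : Set.InjOn (fun g : G => g ^ (u : ZMod (Nat.card G)).val) (X : Set G) :=
      (powCoprime (ZMod.val_coe_unit_coprime u).symm).injective.injOn
    have himg : X.image (fun g : G => g ^ (u : ZMod (Nat.card G)).val) = X := by
      apply Finset.eq_of_subset_of_card_le
      · intro x hx
        obtain ⟨g, hg, rfl⟩ := Finset.mem_image.1 hx
        exact hX g hg _ (ZMod.val_coe_unit_coprime u)
      · rw [Finset.card_image_of_injOn hinj]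
    conv_rhs => rw [← himg]
    rw [Finset.sum_image hinj]
  rw [Finset.sum_congr rfl fun u _ => h3 u, Finset.sum_const, Finset.sum_const, nsmul_eq_mul, nsmul_eq_mul,
    Finset.card_univ, mul_comm (X.card : ℝ)] at h2
  exact le_of_mul_le_mul_left h2 (by exact_mod_cast Fintype.card_pos)

/-- the number of `p`-singular elements is at least the `p'`-part of the order -/
theorem card_sing {p : ℕ} [hp : Fact p.Prime] (hd : p ∣ Nat.card G) :
    ordCompl[p] (Nat.card G) ≤ Nat.card {x : G // p ∣ orderOf x} := by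
  classical
  have := Fintype.ofFinite G
  have h1 := Blocks.CentralProduct.exists_int_regSum (G := G) (p := p) (isIrr_one (G := G)) (isIrr_one (G := G))
  obtain ⟨k, hk⟩ := h1
  have h2 : Blocks.CentralProduct.regSum p (1 : G → ℂ) (1 : G → ℂ) =
      (Nat.card {x : G // ¬ p ∣ orderOf x} : ℂ) := by
    unfold Blocks.CentralProduct.regSum
    rw [Nat.card_eq_fintype_card, Fintype.card_subtype]
    simp only [_root_.Pi.one_apply, _root_.map_one, _root_.mul_one, _root_.Finset.sum_const, _root_.nsmul_eq_mul]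
  rw [h2] at hk
  set m := ordCompl[p] (Nat.card G) with hm
  have hG : Nat.card G = p ^ (Nat.card G).factorization p * m := (Nat.ordProj_mul_ordCompl_eq_self _ p).symm
  have hsum : Nat.card {x : G // p ∣ orderOf x} + Nat.card {x : G // ¬ p ∣ orderOf x} = Nat.card G := by
    rw [Nat.card_eq_fintype_card, Nat.card_eq_fintype_card, Nat.card_eq_fintype_card,
      Fintype.card_subtype_compl, Nat.add_sub_cancel' (Fintype.card_subtype_le _)]
  have hp0 : 0 < p ^ (Nat.card G).factorization p := pow_pos hp.out.pos _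
  have h3 : (Nat.card {x : G // ¬ p ∣ orderOf x} : ℤ) = m * k := by
    have h4 : ((p ^ (Nat.card G).factorization p : ℕ) : ℂ) * (Nat.card {x : G // ¬ p ∣ orderOf x} : ℂ) =
        ((p ^ (Nat.card G).factorization p : ℕ) : ℂ) * ((m : ℂ) * k) := by
      rw [hk]
      conv_lhs => rw [hG]
      push_cast
      ring
    have h5 := mul_left_cancel₀ (by exact_mod_cast hp0.ne') h4
    exact_mod_cast h5
  have h6 : (m : ℤ) ∣ (Nat.card {x : G // p ∣ orderOf x} : ℤ) := by
    have h7 : (Nat.card {x : G // p ∣ orderOf x} : ℤ) = Nat.card G - (Nat.card {x : G // ¬ p ∣ orderOf x} : ℤ) := by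
      omega
    rw [h7]
    apply dvd_sub
    · rw [Int.natCast_dvd_natCast, hG]
      exact Dvd.intro_left _ rfl
    · exact ⟨k, h3⟩
  have h8 : m ∣ Nat.card {x : G // p ∣ orderOf x} := Int.natCast_dvd_natCast.1 h6
  refine Nat.le_of_dvd ?_ h8
  obtain ⟨x, hx⟩ := exists_prime_orderOf_dvd_card' p hd
  have : Nonempty {x : G // p ∣ orderOf x} := ⟨⟨x, by rw [hx]⟩⟩
  exact Nat.card_pos

end fin

section main

variable {p : ℕ} [hp : Fact p.Prime] {M : Ideal AlgInt} {A : Type u} [Group A] [Finite A]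

/-- **weak block orthogonality** -/
theorem orth (hM : IsPModular p M) (B : Finset (IrrCharacter A))
    (hB : ∀ χ, χ ∈ B ↔ χ ∈ principalBlock M A) {u : A} (hu : p ∣ orderOf u) :
    ∑ χ ∈ B, (charDegree (χ : A → ℂ) : ℂ) * (χ : A → ℂ) u = 0 := by
  have h1 := Blocks.Orthogonality.weak_block_orthogonality hM (principalBlock M A)
    (S0913.result p M hM _ ⟨H893.Sd.one A, rfl⟩) (x := (1 : A)) (y := u⁻¹)
    (by rw [orderOf_one, Nat.dvd_one]; exact hp.out.ne_one) (by rwa [orderOf_inv])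
  have h2 : (B : Set (IrrCharacter A)) = principalBlock M A := Set.ext fun χ => hB χ
  rw [← h2, finsum_mem_coe_finset] at h1
  rw [← h1]
  refine Finset.sum_congr rfl fun χ _ => ?_
  rw [irr_one_eq_charDegree χ.2, ← isCharacter_apply_inv (isIrr_isCharacter χ.2), inv_inv]

theorem indFun_one' [Fintype A] (H : Subgroup A) (θ : H → ℂ) : indFun H θ 1 = (H.index : ℂ) * θ 1 := by
  rw [indFun_apply]
  have h1 : ∀ x : A, extendByZero H θ (x⁻¹ * 1 * x) = θ 1 := by
    intro x
    have h2 : x⁻¹ * 1 * x = ((1 : H) : A) := by rw [mul_one, inv_mul_cancel]; rfl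
    rw [h2, extendByZero_of_mem H θ (SetLike.coe_mem _)]
  rw [Finset.sum_congr rfl fun x _ => h1 x, Finset.sum_const, Finset.card_univ, nsmul_eq_mul, ← Nat.card_eq_fintype_card,
    ← H.card_mul_index]
  have h3 : (Nat.card H : ℂ) ≠ 0 := card_ne_zero_complex
  push_cast
  field_simp

/-- a member of the principal block over a member of the principal block of a normal subgroup, with its degree -/
theorem exists_above (hM : IsPModular p M) (N : Subgroup A) [N.Normal] (θ : IrrCharacter N)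
    (hθ : θ ∈ principalBlock M N) : ∃ χ ∈ principalBlock M A, charDegree (θ : N → ℂ) ≤ charDegree (χ : A → ℂ) ∧
      charDegree (χ : A → ℂ) ≤ N.index * charDegree (θ : N → ℂ) := by
  have := Fintype.ofFinite A
  have := Fintype.ofFinite N
  obtain ⟨χ, hχ, h0⟩ := H684.CoverCount.exists_over hM N θ hθ
  refine ⟨χ, hχ, ?_, ?_⟩
  · exact H996.Eight.Interval.charDegree_le (Brauer.isCharacter_restrict (isIrr_isCharacter χ.2) N)
      (irr_one_eq_charDegree χ.2) θ.2 h0
  · have h1 : classInner (indFun N (θ : N → ℂ)) (χ : A → ℂ) ≠ 0 := by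
      rw [Brauer.classInner_indFun N _ _ _ (isIrr_isClassFunction χ.2)]
      intro h2
      apply h0
      rw [← classInner_conj_symm, h2, map_zero]
    refine H996.Eight.Interval.charDegree_le (Brauer.isCharacter_indFun N (isIrr_isCharacter θ.2)) ?_ χ.2 h1
    rw [indFun_one', irr_one_eq_charDegree θ.2]
    push_cast
    ring

theorem le_commutator {S : Type*} [Group S] [IsSimpleGroup S] (hna : ¬ IsMulCommutative S) (N : Subgroup A)
    (e : N ≃* S) : N ≤ commutator A := by
  have h1 : commutator S = ⊤ := by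
    rcases IsSimpleGroup.eq_bot_or_eq_top_of_normal (commutator S) inferInstance with h | h
    · exfalso
      apply hna
      refine ⟨⟨fun x y => ?_⟩⟩
      have h2 : ⁅x, y⁆ ∈ commutator S := Subgroup.commutator_mem_commutator (Subgroup.mem_top _) (Subgroup.mem_top _)
      rw [h, Subgroup.mem_bot] at h2
      exact commutatorElement_eq_one_iff_mul_comm.1 h2
    · exact h
  set f : S →* A := N.subtype.comp e.symm.toMonoidHom with hf
  have h2 : (⊤ : Subgroup S).map f = N := by
    rw [← MonoidHom.range_eq_map]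
    ext x
    constructor
    · rintro ⟨s, rfl⟩
      exact (e.symm s).2
    · intro hx
      exact ⟨e ⟨x, hx⟩, by simp only [hf, _root_.MulEquiv.toMonoidHom_eq_coe, _root_.MonoidHom.coe_comp, _root_.Subgroup.coe_subtype, _root_.MonoidHom.coe_coe, _root_.Function.comp_apply, _root_.MulEquiv.symm_apply_apply]⟩
  have h3 : N = ⁅N, N⁆ := by
    conv_lhs => rw [← h2, ← h1, commutator_def, Subgroup.map_commutator, h2]
  rw [h3, commutator_def]
  exact Subgroup.commutator_mono le_top le_top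

/-- the contradiction for three degrees -/
theorem core (hM : IsPModular p M) (N : Subgroup A) [N.Normal] (hNA : N ≤ commutator A)
    (hpN : p ∣ Nat.card N) {a b : ℕ} (hb : N.index < b) (hab : b < a)
    (hdeg : ∀ χ : IrrCharacter A, χ ∈ principalBlock M A →
      charDegree (χ : A → ℂ) = 1 ∨ charDegree (χ : A → ℂ) = b ∨ charDegree (χ : A → ℂ) = a) :
    a ^ 2 ≤ 2 * N.index ^ 2 + 2 * b ^ 2 * (N.index * ordProj[p] (Nat.card N) * Nat.card (principalBlock M A)) := by
  classical
  have hfin := Core.finite_irr (G := A)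
  have hprime : M.IsPrime := Blocks.Local.isPrime_of_isPModular hM
  have := Fintype.ofFinite (IrrCharacter A)
  have := Fintype.ofFinite A
  have hidx : 0 < N.index := Nat.pos_of_ne_zero N.index_ne_zero_of_finite
  set B : Finset (IrrCharacter A) := Finset.univ.filter (· ∈ principalBlock M A) with hBdef
  have hB : ∀ χ, χ ∈ B ↔ χ ∈ principalBlock M A := fun χ => by rw [hBdef, Finset.mem_filter]; simp only [_root_.Finset.mem_univ, _root_.true_and]
  have hBcard : B.card = Nat.card (principalBlock M A) := by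
    rw [Nat.card_eq_fintype_card, ← Set.toFinset_card]
    congr 1
    ext χ
    rw [hB, Set.mem_toFinset]
  set L := B.filter (fun χ : IrrCharacter A => charDegree (χ : A → ℂ) = 1) with hL
  set Bb := B.filter (fun χ : IrrCharacter A => charDegree (χ : A → ℂ) = b) with hBb
  set Ba := B.filter (fun χ : IrrCharacter A => charDegree (χ : A → ℂ) = a) with hBa
  -- the relation
  have hrel : ∀ u : A, u ∈ N → p ∣ orderOf u → (L.card : ℂ) + b * sm Bb u + a * sm Ba u = 0 := by
    intro u huN hu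
    have h1 := orth hM B hB hu
    have h2 : ∀ χ ∈ B, (charDegree (χ : A → ℂ) : ℂ) * (χ : A → ℂ) u =
        (if charDegree (χ : A → ℂ) = 1 then (1 : ℂ) else 0) +
        (if charDegree (χ : A → ℂ) = b then (b : ℂ) * (χ : A → ℂ) u else 0) +
        (if charDegree (χ : A → ℂ) = a then (a : ℂ) * (χ : A → ℂ) u else 0) := by
      intro χ hχ
      rcases hdeg χ ((hB χ).1 hχ) with h3 | h3 | h3
      · rw [if_pos h3, if_neg (by omega), if_neg (by omega), h3, Nat.cast_one, one_mul, add_zero, add_zero,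
          H597.Taketa.commutator_le_ker_of_linear χ.2 h3 u (hNA huN), irr_one_eq_charDegree χ.2, h3, Nat.cast_one]
      · rw [if_neg (by omega), if_pos h3, if_neg (by omega), h3, add_zero, zero_add]
      · rw [if_neg (by omega), if_neg (by omega), if_pos h3, h3, zero_add, zero_add]
    rw [Finset.sum_congr rfl h2, Finset.sum_add_distrib, Finset.sum_add_distrib, ← Finset.sum_filter,
      ← Finset.sum_filter, ← Finset.sum_filter, ← hL, ← hBb, ← hBa, Finset.sum_const, nsmul_eq_mul, mul_one,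
      ← Finset.mul_sum, ← Finset.mul_sum] at h1
    exact h1
  have hLle : L.card ≤ N.index := by
    refine le_trans (Finset.card_le_card ?_) (H279.FiveAlt.card_linear_le N hNA)
    intro χ hχ
    rw [Finset.mem_filter] at hχ ⊢
    exact ⟨Finset.mem_univ _, hχ.2⟩
  have hLpos : 0 < L.card := by
    refine Finset.card_pos.2 ⟨H893.Sd.one A, ?_⟩
    rw [Finset.mem_filter, hB]
    refine ⟨Blocks.PrincipalSection.one_mem_principalBlock, ?_⟩
    have h1 := irr_one_eq_charDegree (H893.Sd.one A).2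
    have h2 : ((H893.Sd.one A : IrrCharacter A) : A → ℂ) 1 = 1 := rfl
    rw [h2] at h1
    exact_mod_cast h1.symm
  -- the sum over the large degree does not vanish
  have hne : ∀ u : A, u ∈ N → p ∣ orderOf u → sm Ba u ≠ 0 := by
    intro u huN hu h0
    have h1 := hrel u huN hu
    rw [h0, mul_zero, add_zero] at h1
    have hb0 : (b : ℂ) ≠ 0 := by exact_mod_cast (by omega : b ≠ 0)
    have h2 : sm Bb u = ((-(L.card : ℚ) / b : ℚ) : ℂ) := by
      push_cast
      rw [eq_div_iff hb0]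
      linear_combination h1
    obtain ⟨z, hz⟩ := exists_int_of_isIntegral (isIntegral_sm Bb u) ⟨_, h2⟩
    rw [hz] at h1
    have h3 : (L.card : ℤ) + b * z = 0 := by exact_mod_cast h1
    have h4 : (b : ℤ) ∣ (L.card : ℤ) := ⟨-z, by linarith only [h3]⟩
    have h5 := Nat.le_of_dvd hLpos (Int.natCast_dvd_natCast.1 h4)
    omega
  set X : Finset A := Finset.univ.filter (fun u => u ∈ N ∧ p ∣ orderOf u) with hX
  have hXmem : ∀ u, u ∈ X ↔ u ∈ N ∧ p ∣ orderOf u := fun u => by rw [hX, Finset.mem_filter]; simp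
  have h1 : (X.card : ℝ) ≤ ∑ g ∈ X, ‖sm Ba g‖ ^ 2 := by
    refine card_le_sum_norm Ba X ?_ fun g hg => hne g ((hXmem g).1 hg).1 ((hXmem g).1 hg).2
    intro g hg k hk
    rw [hXmem] at hg ⊢
    refine ⟨N.pow_mem hg.1 k, ?_⟩
    rw [Nat.Coprime.orderOf_pow (Nat.Coprime.coprime_dvd_left (orderOf_dvd_natCard g) hk.symm)]
    exact hg.2
  have h2 : ∑ g ∈ X, ‖(a : ℂ) * sm Ba g‖ ^ 2 ≤
      2 * (L.card : ℝ) ^ 2 * X.card + 2 * (b : ℝ) ^ 2 * ((Nat.card A : ℝ) * Bb.card) := by
    have h3 : ∀ g ∈ X, ‖(a : ℂ) * sm Ba g‖ ^ 2 ≤ 2 * (L.card : ℝ) ^ 2 + 2 * (b : ℝ) ^ 2 * ‖sm Bb g‖ ^ 2 := by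
      intro g hg
      have h4 := hrel g ((hXmem g).1 hg).1 ((hXmem g).1 hg).2
      have h5 : (a : ℂ) * sm Ba g = -((L.card : ℂ) + b * sm Bb g) := by linear_combination h4
      rw [h5, norm_neg]
      have h6 : ‖(L.card : ℂ) + b * sm Bb g‖ ≤ L.card + b * ‖sm Bb g‖ := by
        refine (norm_add_le _ _).trans ?_
        rw [norm_mul, Complex.norm_natCast, Complex.norm_natCast]
      have h7 : ‖(L.card : ℂ) + b * sm Bb g‖ ^ 2 ≤ (L.card + b * ‖sm Bb g‖) ^ 2 :=
        pow_le_pow_left₀ (norm_nonneg _) h6 2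
      refine h7.trans ?_
      linarith only [sq_nonneg ((L.card : ℝ) - b * ‖sm Bb g‖)]
    refine (Finset.sum_le_sum h3).trans ?_
    rw [Finset.sum_add_distrib, Finset.sum_const, nsmul_eq_mul, ← Finset.mul_sum, mul_comm (X.card : ℝ)]
    refine add_le_add le_rfl (mul_le_mul_of_nonneg_left ?_ (by (clear * -; positivity)))
    rw [← sum_norm_sm]
    exact Finset.sum_le_sum_of_subset_of_nonneg (Finset.subset_univ _) fun _ _ _ => by (clear * -; positivity)
  have h3 : ∑ g ∈ X, ‖(a : ℂ) * sm Ba g‖ ^ 2 = (a : ℝ) ^ 2 * ∑ g ∈ X, ‖sm Ba g‖ ^ 2 := by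
    rw [Finset.mul_sum]
    refine Finset.sum_congr rfl fun g _ => ?_
    rw [norm_mul, Complex.norm_natCast, mul_pow]
  rw [h3] at h2
  have h4 : (a : ℝ) ^ 2 * X.card ≤ 2 * (L.card : ℝ) ^ 2 * X.card + 2 * (b : ℝ) ^ 2 * ((Nat.card A : ℝ) * Bb.card) :=
    (mul_le_mul_of_nonneg_left h1 (by (clear * -; positivity))).trans h2
  have h5 : a ^ 2 * X.card ≤ 2 * L.card ^ 2 * X.card + 2 * b ^ 2 * (Nat.card A * Bb.card) := by exact_mod_cast h4
  -- the number of `p`-singular elements of `N`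
  have h6 : ordCompl[p] (Nat.card N) ≤ X.card := by
    refine (card_sing hpN).trans ?_
    have h7 : Nat.card {x : N // p ∣ orderOf x} = Nat.card {u : A // u ∈ N ∧ p ∣ orderOf u} :=
      Nat.card_congr
        { toFun := fun x => ⟨x.1.1, x.1.2, by rw [Subgroup.orderOf_coe]; exact x.2⟩
          invFun := fun u => ⟨⟨u.1, u.2.1⟩, by rw [← Subgroup.orderOf_coe]; exact u.2.2⟩
          left_inv := fun x => rfl
          right_inv := fun u => rfl }
    rw [h7, Nat.card_eq_fintype_card, Fintype.card_subtype]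
  have h7 : Nat.card A ≤ N.index * ordProj[p] (Nat.card N) * X.card := by
    rw [← N.index_mul_card]
    conv_lhs => rw [← Nat.ordProj_mul_ordCompl_eq_self (Nat.card N) p]
    rw [← mul_assoc]
    exact Nat.mul_le_mul_left _ h6
  have h8 : Bb.card ≤ Nat.card (principalBlock M A) := by
    rw [← hBcard]
    exact Finset.card_filter_le _ _
  have hXpos : 0 < X.card := lt_of_lt_of_le (Nat.ordCompl_pos p Nat.card_pos.ne') h6
  refine le_of_mul_le_mul_right ?_ hXpos
  calc a ^ 2 * X.card ≤ 2 * L.card ^ 2 * X.card + 2 * b ^ 2 * (Nat.card A * Bb.card) := h5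
    _ ≤ 2 * N.index ^ 2 * X.card + 2 * b ^ 2 * ((N.index * ordProj[p] (Nat.card N) * X.card) *
        Nat.card (principalBlock M A)) := by gcongr
    _ = _ := by ring

/-- **The size criterion without centralizers.** -/
theorem kill_gen {S : Type u} [Group S] [Finite S] [IsSimpleGroup S] (hna : ¬ IsMulCommutative S) (hS : SizeOK S)
    (hpS : p ∣ Nat.card S) (α β : IrrCharacter S)
    (hα : ∀ M : Ideal AlgInt, IsPModular p M → α ∈ principalBlock M S)
    (hβ : ∀ M : Ideal AlgInt, IsPModular p M → β ∈ principalBlock M S)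
    (nα : ∃ g : S, (α : S → ℂ) g ≠ 1) {K : ℕ}
    (hK : (ordProj[p] (Nat.card (Out S) * Nat.card S)) ^ 2 + 4 ≤ 4 * K)
    (h : 2 * Nat.card (Out S) ^ 2 + 2 * (Nat.card (Out S) * charDegree (α : S → ℂ)) ^ 2 *
      (Nat.card (Out S) * ordProj[p] (Nat.card S) * K) < charDegree (β : S → ℂ) ^ 2) : Kill p S := by
  classical
  intro A _ _ N hN M hM
  have := hN.normal
  obtain ⟨e⟩ := hN.iso
  have hprime : M.IsPrime := Blocks.Local.isPrime_of_isPModular hM
  have hfin := Core.finite_irr (G := A)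
  have : Finite (Out S) := inferInstance
  have ho : N.index ∣ Nat.card (Out S) := H625.R4.index_dvd_out N e.symm hN.cent
  have hopos : 0 < Nat.card (Out S) := Nat.card_pos
  have hole : N.index ≤ Nat.card (Out S) := Nat.le_of_dvd hopos ho
  have hcN : Nat.card N = Nat.card S := Nat.card_congr e.toEquiv
  have hdm : ∀ θ : IrrCharacter S, charDegree ((H700.PrinExt.mapIrr e θ : IrrCharacter N) : N → ℂ) =
      charDegree (θ : S → ℂ) := by
    intro θ
    unfold charDegree
    rw [H700.PrinExt.mapIrr_apply, map_one]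
  obtain ⟨χα, hχα, hα1, hα2⟩ := exists_above hM N _ (H700.PrinExt.mapIrr_mem e (hα M hM))
  obtain ⟨χβ, hχβ, hβ1, hβ2⟩ := exists_above hM N _ (H700.PrinExt.mapIrr_mem e (hβ M hM))
  rw [hdm] at hα1 hα2 hβ1 hβ2
  set o := Nat.card (Out S) with hodef
  set b := charDegree (χα : A → ℂ) with hbdef
  set a := charDegree (χβ : A → ℂ) with hadef
  set P := ordProj[p] (Nat.card S) with hP
  have hPpos : 0 < P := Nat.ordProj_pos _ _
  have hKpos : 0 < K := by
    rcases Nat.eq_zero_or_pos K with h0 | h0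
    · rw [h0] at hK; omega
    · exact h0
  have hαo := hS α nα
  have hb1 : N.index < b := by omega
  have hbo : b ≤ o * charDegree (α : S → ℂ) := hα2.trans (Nat.mul_le_mul_right _ hole)
  have hab : b < a := by
    have h1 : o * charDegree (α : S → ℂ) < charDegree (β : S → ℂ) := by
      have h2 : (o * charDegree (α : S → ℂ)) ^ 2 < charDegree (β : S → ℂ) ^ 2 := by
        refine lt_of_le_of_lt ?_ h
        have h3 : 1 ≤ o * P * K := Nat.one_le_iff_ne_zero.2 (by (clear * - hopos hPpos hKpos; positivity))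
        nlinarith only [h3]
      exact lt_of_pow_lt_pow_left₀ 2 (Nat.zero_le _) h2
    omega
  by_contra hc
  have h1 : ({1, b, a} : Set ℕ) ⊆ cd0 M A := by
    rintro x (rfl | rfl | rfl)
    · refine ⟨H893.Sd.one A, Blocks.PrincipalSection.one_mem_principalBlock, ?_⟩
      have h1 := irr_one_eq_charDegree (H893.Sd.one A).2
      have h2 : ((H893.Sd.one A : IrrCharacter A) : A → ℂ) 1 = 1 := rfl
      rw [h2] at h1
      exact_mod_cast h1.symm
    · exact ⟨χα, hχα, rfl⟩
    · exact ⟨χβ, hχβ, rfl⟩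
  have hfincd : (cd0 M A).Finite := by
    refine ((Set.toFinite (principalBlock M A)).image fun χ : IrrCharacter A => charDegree (χ : A → ℂ)).subset ?_
    rintro x ⟨χ, hχ, rfl⟩
    exact ⟨χ, hχ, rfl⟩
  have hb2 : 1 < b := by
    have : 0 < N.index := Nat.pos_of_ne_zero N.index_ne_zero_of_finite
    omega
  have h3 : ({1, b, a} : Set ℕ).ncard = 3 := by
    rw [Set.ncard_eq_three]
    exact ⟨1, b, a, by omega, by omega, by omega, rfl⟩
  have h4 := Set.eq_of_subset_of_ncard_le h1 (by omega) hfincd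
  have hdeg : ∀ χ : IrrCharacter A, χ ∈ principalBlock M A →
      charDegree (χ : A → ℂ) = 1 ∨ charDegree (χ : A → ℂ) = b ∨ charDegree (χ : A → ℂ) = a := by
    intro χ hχ
    have h5 : charDegree (χ : A → ℂ) ∈ cd0 M A := ⟨χ, hχ, rfl⟩
    rw [← h4] at h5
    exact h5
  have h5 := core hM N (le_commutator hna N e) (by rw [hcN]; exact hpS) hb1 hab hdeg
  rw [hcN, ← hP] at h5
  -- Brauer-Feit
  have h6 : Nat.card (principalBlock M A) ≤ K := by
    have h7 := H608.BrauerFeit.card_le p hM (B := principalBlock M A) ⟨H893.Sd.one A, rfl⟩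
    have h8 : p ^ (2 * blockDefect p (principalBlock M A)) ≤ (ordProj[p] (o * Nat.card S)) ^ 2 := by
      rw [mul_comm 2, pow_mul]
      refine Nat.pow_le_pow_left (Nat.pow_le_pow_right hp.out.pos ?_) 2
      refine (Nat.sub_le _ _).trans ?_
      have h9 : Nat.card A ∣ o * Nat.card S := by
        rw [← N.index_mul_card, hcN]
        exact Nat.mul_dvd_mul_right ho _
      exact (Nat.factorization_le_iff_dvd Nat.card_pos.ne' (Nat.mul_pos hopos Nat.card_pos).ne').2 h9 p
    omega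
  have h7 : charDegree (β : S → ℂ) ^ 2 ≤ a ^ 2 := Nat.pow_le_pow_left hβ1 2
  have h8 : a ^ 2 ≤ 2 * o ^ 2 + 2 * (o * charDegree (α : S → ℂ)) ^ 2 * (o * P * K) :=
    h5.trans (by gcongr)
  omega

end main

end Cfsg.Agent.H726.BD
end

-- part: H726/BD/Chev
section
prune_inst 0x4001402202000004000200000080100000000000000100400000000880600040a00000000008004080001000000811000010020000000084040000000000008202009199001100000e000008010000200000000000000000000000000000010000000
set_option linter.all false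
open scoped Cfsg.Agent.FastGrp

-- part: H726/BD/St
section
/-!
# The Steinberg character in the principal block, with its degree (helper726)

`st_of`, `st_of_index` : `χ` in the principal `p`-block for all `M`, of degree `|S|_r`.
-/

set_option autoImplicit false
set_option linter.unusedSectionVars false

namespace Cfsg.Agent.H726.BD

open Cfsg CoxeterSystem Cfsg.Agent.ChevalleyStructure.CoxeterGeom Cfsg.Agent.Tits.Roots Cfsg.Agent.Tits.Core
  Cfsg.Agent.Tits.Exchange Cfsg.Agent.Nodes.Reps Cfsg.Agent.Nodes.BNOf Cfsg.Agent.Nodes.StabComb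
  Cfsg.Agent.Nodes.Bruhat Cfsg.Agent.Nodes.OppDec Cfsg.Agent.Nodes.LeviDec Cfsg.Agent.Nodes.NormalForm
  Cfsg.Agent.KFacts.RgdOpp Cfsg.Agent.KFacts.RgdAut Cfsg.Agent.KFacts.RgdDiag Cfsg.Agent.H554.RG
  Cfsg.Agent.H116.RatB0

universe u

variable {I W : Type*} {S : Type u} [Fintype I] [DecidableEq I] [Group W] [Group S] {M : CoxeterMatrix I}
  {cs : CoxeterSystem M W} {A : I → I → ℤ} {h : IsCartan M A} {r : ℕ} {T : Subgroup S} {n : I → S}
  {X : (I → ℤ) → Subgroup S} (R : RGD cs h r T n X)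

include R in
/-- **The Steinberg character in the principal block.** -/
theorem st_of [Finite W] [Finite S] [hr : Fact r.Prime] (hG : GG cs h T X = ⊤) {p : ℕ}
    [hp : Fact p.Prime] (hpr : p ≠ r) (hJ : ∀ J : Finset I, J ≠ Finset.univ → p ∣ (PJ cs h T X (J : Set I)).index ∨
      reg p (PJ cs h T X (J : Set I)) ≡ reg p (⊤ : Subgroup S) [MOD p]) :
    ∃ χ : IrrCharacter S, (∀ M : Ideal AlgInt, IsPModular p M → χ ∈ principalBlock M S) ∧
      charDegree (χ : S → ℂ) = ordProj[r] (Nat.card S) := by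
  have := Fintype.ofFinite S
  obtain ⟨M₀, hM₀⟩ := Cfsg.Agent.Blocks.Knorr.exists_isPModular p
  obtain ⟨χ, h1, -, h3, -⟩ := exists_st R hG hpr hM₀ hJ
  refine ⟨χ, fun M hM => ?_, ?_⟩
  · rw [H893.Sd.mem_iff hM, ← H893.Sd.mem_iff hM₀]
    exact h1
  · obtain ⟨Q, hQ⟩ := exists_sylow R hG
    rw [h3, ← hQ, Sylow.card_eq_multiplicity]

include R in
theorem st_of_index [Finite W] [Finite S] [hr : Fact r.Prime] (hG : GG cs h T X = ⊤) {p : ℕ}
    [hp : Fact p.Prime] (hpr : p ≠ r) (hJ : ∀ k : I, p ∣ (PJ cs h T X {j | j ≠ k}).index) :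
    ∃ χ : IrrCharacter S, (∀ M : Ideal AlgInt, IsPModular p M → χ ∈ principalBlock M S) ∧
      charDegree (χ : S → ℂ) = ordProj[r] (Nat.card S) := by
  refine st_of R hG hpr fun J hJ' => Or.inl ?_
  obtain ⟨k, hk⟩ : ∃ k, k ∉ J := by
    by_contra hcon
    push Not at hcon
    exact hJ' (Finset.eq_univ_iff_forall.2 hcon)
  refine (hJ k).trans (Subgroup.index_dvd_of_le (PJ_mono R ?_))
  intro j hj hjk
  subst hjk
  exact hk hj

end Cfsg.Agent.H726.BD
end

-- part: H726/BD/Num
section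
/-!
# Numerical lemmas: the 3-part of `∏ (q ^ d - 1)` (helper726)
-/

set_option autoImplicit false

namespace Cfsg.Agent.H726.BD.Num

open Cfsg.Agent.H35.PoinNum

/-- the exponent of 3 in numbers below 81 -/
def v3 (d : ℕ) : ℕ := if 27 ∣ d then 3 else if 9 ∣ d then 2 else if 3 ∣ d then 1 else 0

theorem fac_eq {d k : ℕ} (hd : 0 < d) (h1 : 3 ^ k ∣ d) (h2 : ¬ 3 ^ (k + 1) ∣ d) : d.factorization 3 = k := by
  have h3 := (Nat.prime_three.pow_dvd_iff_le_factorization hd.ne').1 h1
  have h4 := mt (Nat.prime_three.pow_dvd_iff_le_factorization hd.ne').2 h2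
  omega

theorem fac_v3 {d : ℕ} (hd : 0 < d) (h : d < 81) : d.factorization 3 = v3 d := by
  unfold v3
  split_ifs with h1 h2 h3
  · exact fac_eq hd (by simpa using h1) (fun h4 => by
      have := Nat.le_of_dvd hd h4; norm_num at this; omega)
  · exact fac_eq hd (by simpa using h2) (by simpa using h1)
  · exact fac_eq hd (by simpa using h3) (by simpa using h2)
  · exact fac_eq hd (by simp) (by simpa using h3)

theorem fac_one {q d : ℕ} (hq : 2 ≤ q) (h3 : 3 ∣ q - 1) (hd : 0 < d) :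
    (q ^ d - 1).factorization 3 = (q - 1).factorization 3 + d.factorization 3 := by
  have hp : Fact (Nat.Prime 3) := ⟨Nat.prime_three⟩
  have h := padicValNat.pow_sub_pow (p := 3) (x := q) (y := 1) (by decide) (by omega) h3 (by omega) (n := d) hd.ne'
  rw [one_pow] at h
  rw [Nat.factorization_def _ Nat.prime_three, Nat.factorization_def _ Nat.prime_three,
    Nat.factorization_def _ Nat.prime_three, h]

theorem fac_even {q d : ℕ} (hq : 2 ≤ q) (h3 : 3 ∣ q + 1) (hd : 0 < d) (he : Even d) :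
    (q ^ d - 1).factorization 3 = (q + 1).factorization 3 + d.factorization 3 := by
  obtain ⟨e, rfl⟩ := he
  have h4 : 3 ∣ q ^ 2 - 1 := by
    have : q ^ 2 - 1 = (q - 1) * (q + 1) := by
      obtain ⟨x, rfl⟩ := Nat.exists_eq_add_of_le hq
      have : (2 + x) ^ 2 - 1 = (2 + x) ^ 2 - 1 ^ 2 := by norm_num only []
      rw [this, Nat.sq_sub_sq]; ring
    rw [this]
    exact h3.mul_left _
  have h5 := fac_one (q := q ^ 2) (d := e) (by nlinarith) h4 (by omega)
  have h6 : q ^ (e + e) - 1 = (q ^ 2) ^ e - 1 := by rw [← pow_mul, two_mul]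
  have h7 : (e + e).factorization 3 = e.factorization 3 := by
    have : e + e = 2 * e := by ring
    rw [this, Nat.factorization_mul (by norm_num) (by omega)]
    simp [Nat.factorization_eq_zero_of_not_dvd (show ¬ 3 ∣ 2 by decide)]
  have h8 : (q ^ 2 - 1).factorization 3 = (q + 1).factorization 3 := by
    have e1 : q ^ 2 - 1 = (q - 1) * (q + 1) := by
      obtain ⟨x, rfl⟩ := Nat.exists_eq_add_of_le hq
      have : (2 + x) ^ 2 - 1 = (2 + x) ^ 2 - 1 ^ 2 := by norm_num only []
      rw [this, Nat.sq_sub_sq]; ring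
    rw [e1, Nat.factorization_mul (by omega) (by omega)]
    have : ¬ 3 ∣ q - 1 := by omega
    simp only [Nat.factorization_eq_zero_of_not_dvd this, _root_.Finsupp.coe_add, _root_.Pi.add_apply, _root_.zero_add]
  rw [h6, h5, h7, h8]

theorem fac_odd {q d : ℕ} (hq : 2 ≤ q) (h3 : 3 ∣ q + 1) (he : Odd d) : (q ^ d - 1).factorization 3 = 0 := by
  apply Nat.factorization_eq_zero_of_not_dvd
  intro h
  have h1 : (q : ZMod 3) = -1 := by
    have : ((q + 1 : ℕ) : ZMod 3) = 0 := (ZMod.natCast_eq_zero_iff _ _).2 h3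
    push_cast at this
    linear_combination this
  have h2 : ((q ^ d - 1 : ℕ) : ZMod 3) = 0 := (ZMod.natCast_eq_zero_iff _ _).2 h
  rw [Nat.cast_sub (Nat.one_le_pow _ _ (by omega)), Nat.cast_pow, h1, he.neg_one_pow] at h2
  exact absurd h2 (by decide)

theorem pr_ne {q : ℕ} (hq : 2 ≤ q) : ∀ D : List ℕ, (∀ d ∈ D, 0 < d) → pr q D ≠ 0
  | [], _ => by rw [pr_nil]; exact one_ne_zero
  | d :: D, h => by
    rw [pr_cons]
    have h1 : q ≤ q ^ d := Nat.le_self_pow (h d (List.mem_cons_self ..)).ne' q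
    exact Nat.mul_ne_zero (by omega) (pr_ne hq D fun e he => h e (List.mem_cons_of_mem _ he))

theorem fac_pr_one {q : ℕ} (hq : 2 ≤ q) (h3 : 3 ∣ q - 1) : ∀ D : List ℕ, (∀ d ∈ D, 0 < d ∧ d < 81) →
    (pr q D).factorization 3 = D.length * (q - 1).factorization 3 + (D.map v3).sum
  | [], _ => by simp [pr_nil]
  | d :: D, h => by
    have h0 := h d (List.mem_cons_self ..)
    have h1 : q ≤ q ^ d := Nat.le_self_pow h0.1.ne' q
    have ih := fac_pr_one hq h3 D fun e he => h e (List.mem_cons_of_mem _ he)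
    rw [pr_cons, Nat.factorization_mul (by omega) (pr_ne hq D fun e he => (h e (List.mem_cons_of_mem _ he)).1),
      Finsupp.add_apply, ih, fac_one hq h3 h0.1, fac_v3 h0.1 h0.2]
    simp only [List.length_cons, List.map_cons, List.sum_cons]
    ring

theorem fac_pr_two {q : ℕ} (hq : 2 ≤ q) (h3 : 3 ∣ q + 1) : ∀ D : List ℕ, (∀ d ∈ D, 0 < d ∧ d < 81) →
    (pr q D).factorization 3 = (D.filter fun d => d % 2 = 0).length * (q + 1).factorization 3 +
      ((D.filter fun d => d % 2 = 0).map v3).sum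
  | [], _ => by simp [pr_nil]
  | d :: D, h => by
    have h0 := h d (List.mem_cons_self ..)
    have h1 : q ≤ q ^ d := Nat.le_self_pow h0.1.ne' q
    have ih := fac_pr_two hq h3 D fun e he => h e (List.mem_cons_of_mem _ he)
    rw [pr_cons, Nat.factorization_mul (by omega) (pr_ne hq D fun e he => (h e (List.mem_cons_of_mem _ he)).1),
      Finsupp.add_apply, ih]
    by_cases he : d % 2 = 0
    · rw [fac_even hq h3 h0.1 (Nat.even_iff.2 he), fac_v3 h0.1 h0.2, List.filter_cons_of_pos (by simpa using he)]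
      simp only [List.length_cons, List.map_cons, List.sum_cons]
      ring
    · rw [fac_odd hq h3 (Nat.odd_iff.2 (by omega)), List.filter_cons_of_neg (by simpa using he), zero_add]

/-- lower bound -/
theorem le_pr {q : ℕ} (hq : 2 ≤ q) : ∀ D : List ℕ, (∀ d ∈ D, 0 < d) → q ^ D.sum ≤ 2 ^ D.length * pr q D
  | [], _ => by simp [pr_nil]
  | d :: D, h => by
    have ih := le_pr hq D fun e he => h e (List.mem_cons_of_mem _ he)
    have h1 : q ≤ q ^ d := Nat.le_self_pow (h d (List.mem_cons_self ..)).ne' q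
    have h2 : q ^ d ≤ 2 * (q ^ d - 1) := by omega
    rw [pr_cons, List.sum_cons, pow_add, List.length_cons, pow_succ]
    calc q ^ d * q ^ D.sum ≤ (2 * (q ^ d - 1)) * (2 ^ D.length * pr q D) := Nat.mul_le_mul h2 ih
      _ = _ := by ring

theorem pr_le {q : ℕ} : ∀ D : List ℕ, pr q D ≤ q ^ D.sum
  | [] => by simp [pr_nil]
  | d :: D => by
    rw [pr_cons, List.sum_cons, pow_add]
    exact Nat.mul_le_mul (Nat.sub_le _ _) (pr_le D)

/-- the index from the orders -/
theorem idx_le {q i : ℕ} (hq : 2 ≤ q) {D E : List ℕ} (hD : ∀ d ∈ D, 0 < d) (h : i * pr q D = pr q E) {c : ℕ}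
    (hc : E.sum = c + D.sum) : i ≤ 2 ^ D.length * q ^ c := by
  have h1 := le_pr hq D hD
  have h2 := pr_le (q := q) E
  rw [← h, hc, pow_add] at h2
  have h3 : 0 < q ^ D.sum := pow_pos (by omega) _
  refine le_of_mul_le_mul_right ?_ h3
  calc i * q ^ D.sum ≤ i * (2 ^ D.length * pr q D) := Nat.mul_le_mul_left _ h1
    _ = 2 ^ D.length * (i * pr q D) := by ring
    _ ≤ 2 ^ D.length * (q ^ c * q ^ D.sum) := Nat.mul_le_mul_left _ h2
    _ = _ := by ring

end Cfsg.Agent.H726.BD.Num
end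

-- part: H726/BD/Rgd
section
/-!
# S4932: the combination (helper726)

`kill_of_st` : a character of degree `D` in the principal `p`-block, a subgroup of index at most `a` divisible by `p`,
`|Out S| ≤ b`, `|S|_p ≤ P`, `3 b⁵ a² P³ < D²`.
-/

set_option autoImplicit false

namespace Cfsg.Agent.H726.BD

open Cfsg Cfsg.Agent.H589.BD

universe u v

theorem kill_of_st {p : ℕ} [hp : Fact p.Prime] {S : Type u} [Group S] [Finite S] [IsSimpleGroup S]
    (hna : ¬ IsMulCommutative S) (hS : SizeOK S) (hpS : p ∣ Nat.card S) (β : IrrCharacter S)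
    (hβ : ∀ M : Ideal AlgInt, IsPModular p M → β ∈ principalBlock M S) (H : Subgroup S) (hH : p ∣ H.index) {a b P D : ℕ}
    (ha : H.index ≤ a) (hb : Nat.card (Out S) ≤ b) (hP : ordProj[p] (Nat.card S) ≤ P)
    (hD : charDegree (β : S → ℂ) = D) (h : 3 * b ^ 5 * a ^ 2 * P ^ 3 < D ^ 2) : Kill p S := by
  have := Fintype.ofFinite S
  obtain ⟨M₀, hM₀⟩ := Cfsg.Agent.Blocks.Knorr.exists_isPModular p
  obtain ⟨α, h1, -, h2, h3⟩ := H940.RatB.exists_prime_degree hM₀ H hH
  have hα : ∀ M : Ideal AlgInt, IsPModular p M → α ∈ principalBlock M S := fun M hM => by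
    rw [H893.Sd.mem_iff hM, ← H893.Sd.mem_iff hM₀]
    exact h1
  have hαd : charDegree (α : S → ℂ) ≤ H.index :=
    H996.Eight.Interval.charDegree_le (H139.Unipotent.isCharacter_fixedPoint H)
      (H139.Degree.fixedPointCharacter_one H) α.2 h3
  have nα : ∃ g : S, (α : S → ℂ) g ≠ 1 := by
    by_contra hc
    push Not at hc
    exact h2 (funext hc)
  set o := Nat.card (Out S) with ho
  have : Finite (Out S) := inferInstance
  have hopos : 0 < o := Nat.card_pos
  set P₀ := ordProj[p] (Nat.card S) with hP₀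
  have hcS : Nat.card S ≠ 0 := Nat.card_pos.ne'
  have hP2 : 2 ≤ P₀ := by
    have h4 : 1 ≤ (Nat.card S).factorization p := (hp.out.dvd_iff_one_le_factorization hcS).1 hpS
    calc 2 ≤ p ^ 1 := by rw [pow_one]; exact hp.out.two_le
      _ ≤ _ := Nat.pow_le_pow_right hp.out.pos h4
  have hordo : ordProj[p] o ≤ o := Nat.ordProj_le p hopos.ne'
  have hord : ordProj[p] (o * Nat.card S) ≤ o * P₀ := by
    rw [Nat.factorization_mul hopos.ne' hcS, Finsupp.add_apply, pow_add]
    exact Nat.mul_le_mul_right _ hordo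
  have h5 : 2 ≤ o * P₀ := by nlinarith only [hopos, hP2]
  refine kill_gen hna hS hpS α β hα hβ nα (K := (o * P₀) ^ 2) ?_ ?_
  · have h6 := Nat.pow_le_pow_left hord 2
    nlinarith only [h5, h6]
  · rw [hD]
    refine lt_of_le_of_lt ?_ h
    have h7 : 2 * o ^ 2 + 2 * (o * charDegree (α : S → ℂ)) ^ 2 * (o * P₀ * (o * P₀) ^ 2) ≤
        2 * o ^ 2 + 2 * (o ^ 5 * a ^ 2 * P₀ ^ 3) := by
      have h8 : charDegree (α : S → ℂ) ^ 2 ≤ a ^ 2 := Nat.pow_le_pow_left (hαd.trans ha) 2
      calc 2 * o ^ 2 + 2 * (o * charDegree (α : S → ℂ)) ^ 2 * (o * P₀ * (o * P₀) ^ 2) =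
          2 * o ^ 2 + 2 * (o ^ 5 * charDegree (α : S → ℂ) ^ 2 * P₀ ^ 3) := by ring
        _ ≤ _ := by gcongr
    have ha1 : 1 ≤ a := (Nat.one_le_iff_ne_zero.2 H.index_ne_zero_of_finite).trans ha
    have h9 : 2 * o ^ 2 ≤ o ^ 5 * a ^ 2 * P₀ ^ 3 := by
      have e1 : o ^ 2 ≤ o ^ 5 := Nat.pow_le_pow_right hopos (by norm_num)
      have e2 : 1 ≤ a ^ 2 := Nat.one_le_pow _ _ ha1
      have e3 : 8 ≤ P₀ ^ 3 := by
        calc 8 = 2 ^ 3 := by norm_num
          _ ≤ _ := Nat.pow_le_pow_left hP2 3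
      calc 2 * o ^ 2 = o ^ 2 * 1 * 2 := by ring
        _ ≤ o ^ 5 * a ^ 2 * P₀ ^ 3 := by gcongr; omega
    calc 2 * o ^ 2 + 2 * (o * charDegree (α : S → ℂ)) ^ 2 * (o * P₀ * (o * P₀) ^ 2) ≤
        2 * o ^ 2 + 2 * (o ^ 5 * a ^ 2 * P₀ ^ 3) := h7
      _ ≤ 3 * (o ^ 5 * a ^ 2 * P₀ ^ 3) := by (clear * - h9; omega)
      _ ≤ 3 * (b ^ 5 * a ^ 2 * P ^ 3) := by gcongr
      _ = _ := by ring

/-- The data of `kill_of_st`. -/
def Pack (p : ℕ) (S : Type u) [Group S] : Prop :=
  ∃ (β : IrrCharacter S) (H : Subgroup S), InB0 p β ∧ p ∣ H.index ∧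
    3 * Nat.card (Out S) ^ 5 * H.index ^ 2 * (ordProj[p] (Nat.card S)) ^ 3 < charDegree (β : S → ℂ) ^ 2

theorem Pack.of_equiv {p : ℕ} [hp : Fact p.Prime] {S : Type u} [Group S] [Finite S] {T : Type v} [Group T] (e : S ≃* T)
    (h : Pack p T) : Pack p S := by
  obtain ⟨β, H, h1, h2, h3⟩ := h
  have h4 : (H.comap e.toMonoidHom).index = H.index := H.index_comap_of_surjective e.surjective
  refine ⟨tr e β, H.comap e.toMonoidHom, h1.tr e, h4 ▸ h2, ?_⟩
  rw [charDegree_tr, h4, H55.OutGen.card_out_congr e, Nat.card_congr e.toEquiv]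
  exact h3

theorem Pack.kill {p : ℕ} [hp : Fact p.Prime] {S : Type u} [Group S] [Finite S] [IsSimpleGroup S]
    (h : Pack p S) (hna : ¬ IsMulCommutative S) (hS : SizeOK S) : Kill p S := by
  obtain ⟨β, H, h1, h2, h3⟩ := h
  exact kill_of_st hna hS (h2.trans H.index_dvd_card) β h1 H h2 le_rfl le_rfl le_rfl rfl h3

/-- the data with bounds -/
theorem pack_of_le {p : ℕ} {S : Type u} [Group S] (β : IrrCharacter S)
    (hβ : ∀ M : Ideal AlgInt, IsPModular p M → β ∈ principalBlock M S) (H : Subgroup S) (hH : p ∣ H.index) {a b P D : ℕ}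
    (ha : H.index ≤ a) (hb : Nat.card (Out S) ≤ b) (hP : ordProj[p] (Nat.card S) ≤ P)
    (hD : charDegree (β : S → ℂ) = D) (h : 3 * b ^ 5 * a ^ 2 * P ^ 3 < D ^ 2) : Pack p S := by
  refine ⟨β, H, hβ, hH, lt_of_le_of_lt ?_ (hD ▸ h)⟩
  gcongr

end Cfsg.Agent.H726.BD
end

-- part: H726/BD/Chev
section
/-!
# S4932: the untwisted exceptional groups at the prime 3 (helper726)

`st_chev` : the Steinberg character is in the principal `p`-block, `p ∣ q - 1`.
-/

set_option autoImplicit false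
set_option linter.unusedSectionVars false

namespace Cfsg.Agent.H726.BD

open CoxeterSystem Cfsg Cfsg.Lie Cfsg.Lie.ChevalleyDatum
open Cfsg.Agent.ChevalleyStructure Cfsg.Agent.ChevalleyStructure.Elts Cfsg.Agent.ChevalleyStructure.CoxeterGeom
  Cfsg.Agent.ChevalleyStructure.CoxeterGeomTypes Cfsg.Agent.ChevalleyStructure.NPerm
open Cfsg.Agent.Tits.Roots Cfsg.Agent.Tits.Core Cfsg.Agent.Nodes Cfsg.Agent.Nodes.Reps Cfsg.Agent.Nodes.BNOf
  Cfsg.Agent.Nodes.RGDChev Cfsg.Agent.Nodes.Bruhat Cfsg.Agent.Nodes.NormalForm Cfsg.Agent.Nodes.StabComb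
  Cfsg.Agent.Nodes.LeviDec
open Cfsg.Agent.KFacts.RgdField Cfsg.Agent.KFacts.RgdChevCoord Cfsg.Agent.BpExc.TorCent Cfsg.Agent.BpExc.TorChev
open Cfsg.Agent.BpExc.TowChev Cfsg.Agent.H129.TorusChar Cfsg.Agent.H932.BR Cfsg.Agent.H541.RatB0
open Cfsg.Agent.H589.BD

universe u

section One

variable {D : ChevalleyDatum} {l : ℕ} {M : CoxeterMatrix (Fin l)} (hp : IsType D l M)
  {W : Type*} [Group W] (cs : CoxeterSystem M W) {K : Type u} [Field K] [Finite K]

include hp cs

/-- **The Steinberg character in the principal block, `p ∣ q - 1`** (the proof of helper541) -/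
theorem st_chev {r : ℕ} [hrp' : Fact r.Prime] [hr : CharP K r] {p : ℕ} [hpp : Fact p.Prime] (hd : p ∣ Nat.card K - 1)
    {t : ℤ → Bool} (ht : ∀ d, t d = true → ¬ (p : ℤ) ∣ d) {S : List ℕ} (hS : ∀ s ∈ S, s < D.nroots)
    (hgen : ∀ f : (Fin l → ℤ) →ₗ[ℤ] (Fin l → ℤ), (∀ s ∈ S, f (vec D l s) = vec D l s) → ∀ i, f (sr i) = sr i)
    (hchk : chk D t S = true) :
    ∃ χ : IrrCharacter ↥(D.group K), (∀ M : Ideal AlgInt, IsPModular p M → χ ∈ principalBlock M ↥(D.group K)) ∧
      charDegree (χ : ↥(D.group K) → ℂ) = ordProj[r] (Nat.card ↥(D.group K)) := by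
  classical
  unfold chk at hchk
  rw [Bool.and_eq_true, List.all_eq_true] at hchk
  obtain ⟨h1, h2⟩ := hchk
  have : Fintype K := Fintype.ofFinite K
  have := finite_W hp cs
  obtain ⟨n, -, hn⟩ := FiniteField.card K r
  have hq1 : 1 < Nat.card K := Finite.one_lt_card
  have hpr : p ≠ r := by
    rintro rfl
    have h3 : p ∣ Nat.card K := by rw [Nat.card_eq_fintype_card, hn]; exact dvd_pow_self p n.ne_zero
    have h4 := Nat.dvd_sub h3 hd
    rw [Nat.sub_sub_self hq1.le] at h4
    exact hpp.out.one_lt.ne' (Nat.dvd_one.1 h4)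
  -- a root of unity of order `p`
  have hdvd : p ∣ Nat.card Kˣ := by rw [Nat.card_units]; exact hd
  obtain ⟨z, hz⟩ := exists_prime_orderOf_dvd_card' (G := Kˣ) p hdvd
  have hζ0 : (z : K) ≠ 0 := z.ne_zero
  have hζ : (z : K) ^ p = 1 := by
    rw [← Units.val_pow_eq_pow_val, ← hz, pow_orderOf_eq_one, Units.val_one]
  have hζz : ∀ m : ℤ, (z : K) ^ m = 1 → (p : ℤ) ∣ m := by
    intro m hm
    rw [← hz]
    apply orderOf_dvd_iff_zpow_eq_one.2
    apply Units.ext
    rw [Units.val_zpow_eq_zpow_val, hm, Units.val_one]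
  have hcent : Subgroup.centralizer ((QQ hp K p : Subgroup ↥(D.group K)) : Set ↥(D.group K)) ≤ TT D K := by
    refine cent_le_TT hp cs r (fun x hx => hx.1) ?_ ?_
    · intro x hx
      obtain ⟨s, hs, rfl⟩ := (isRoot_iff hp cs x).1 hx
      obtain ⟨i, hi, h3⟩ := anyL_spec (allL_spec h1 s hs)
      rw [hp.rank_eq] at hi
      refine ⟨hc hp ⟨i, hi⟩ (z : K), hc_mem_QQ hp hζ0 hζ _, ?_⟩
      rw [cX_hc hp _ hζ0, pairing_vec hp _ hs]
      exact fun h4 => ht _ h3 (hζz _ h4)
    · intro w hw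
      have h3 : ∀ s ∈ S, rep cs hp.isCartan w (vec D l s) = vec D l s := by
        intro s hs
        have hs' := hS s hs
        obtain ⟨r', hr', he⟩ := (isRoot_iff hp cs _).1 ((isRoot_vec hp cs hs').act w)
        rw [← he]
        have h4 := allL_spec (h2 s hs) r' hr'
        rw [Bool.or_eq_true, beq_iff_eq] at h4
        rcases h4 with h4 | h4
        · rw [h4]
        · exfalso
          obtain ⟨j, hj, h5⟩ := anyL_spec h4
          rw [hp.rank_eq] at hj
          refine ht _ h5 (hζz _ ?_)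
          have h6 := hw _ (hc_mem_QQ hp hζ0 hζ ⟨j, hj⟩) (vec D l s)
          rw [← he, cX_hc hp _ hζ0, cX_hc hp _ hζ0, pairing_vec hp _ hr', pairing_vec hp _ hs'] at h6
          rw [zpow_sub₀ hζ0, h6, div_self (zpow_ne_zero _ hζ0)]
      exact eq_one_of_fix cs hp.isCartan w (hgen _ h3)
  have hR := rgd (K := K) hp cs r
  have hGG := GG_top (K := K) hp cs
  have hQT : QQ hp K p ≤ TT D K := fun x hx => hx.1
  have hQp : IsPGroup p (QQ hp K p) := fun x => ⟨1, by
    rw [pow_one]
    exact Subtype.ext x.2.2⟩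
  exact st_of hR hGG hpr fun _ _ => Or.inr (H116.RatB0.reg_modEq_of_le hQp
    ((hQT.trans RGD.T_le_B).trans B_le_PJ) (hcent.trans (RGD.T_le_B.trans B_le_PJ)))

end One

/-- the table version, `p = 3` -/
theorem st_three_one {D : ChevalleyDatum} {l : ℕ} {M : CoxeterMatrix (Fin l)} (hp : IsType D l M)
    {W : Type*} [Group W] (cs : CoxeterSystem M W) {K : Type u} [Field K] [Finite K] {r : ℕ} [Fact r.Prime] [CharP K r]
    (hd : 3 ∣ Nat.card K - 1) (h : chk D t3 (H541.RatB0.simp D) = true) :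
    ∃ χ : IrrCharacter ↥(D.group K), (∀ M : Ideal AlgInt, IsPModular 3 M → χ ∈ principalBlock M ↥(D.group K)) ∧
      charDegree (χ : ↥(D.group K) → ℂ) = ordProj[r] (Nat.card ↥(D.group K)) := by
  have : Fact (Nat.Prime 3) := ⟨Nat.prime_three⟩
  refine st_chev hp cs hd (t := t3) ?_ (S := H541.RatB0.simp D) ?_ ?_ h
  · intro d hd hdvd
    simp only [t3, Bool.not_eq_true', beq_eq_false_iff_ne, ne_eq] at hd
    exact hd (Int.emod_eq_zero_of_dvd hdvd)
  · intro s hs
    obtain ⟨i, hi, rfl⟩ := List.mem_map.1 hs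
    rw [List.mem_range] at hi
    exact simple_lt hp.inList hi
  · intro f hf i
    have h1 := hf (D.simple i) (List.mem_map.2 ⟨i, List.mem_range.2 (lt_rank hp i), rfl⟩)
    rwa [vec_simple hp i] at h1

end Cfsg.Agent.H726.BD
end
end
end
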