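import Cfsg.Agent.H726.BD.Chev
import Cfsg.Agent.H116.RatB0.StExc_m3
import Cfsg.Agent.H70.OutE
import Cfsg.Agent.Prune
set_option linter.all false
prune_inst 0x7f00000000000000000000000000000000000000000000000000000000000000000000000000000000000000000000000000000000000000000000000000000000000000000000000000000000000000003fffffffffffffffffffffffffffbeffbdffffffff
open scoped Cfsg.Agent.FastGrp

-- part: H726/BD/Par
section
/-!
# S4932: the untwisted groups, the criterion in terms of the orders of the group and of a parabolic subgroup (helper726)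
-/

set_option autoImplicit false
set_option linter.unusedSectionVars false

namespace Cfsg.Agent.H726.BD

open CoxeterSystem Cfsg.Agent.ChevalleyStructure.CoxeterGeom Cfsg.Agent.Tits.Roots Cfsg.Agent.Tits.Core
  Cfsg.Agent.Tits.RootComb Cfsg.Agent.Nodes.Reps Cfsg.Agent.Nodes.BNOf
  Cfsg.Agent.Nodes.StabComb Cfsg.Agent.Nodes.Bruhat Cfsg.Agent.Nodes.LeviDec Cfsg.Agent.H35.Poin
  Cfsg.Agent.H35.PoinNum Cfsg.Agent.H35.ExcIdx Cfsg.Agent.H134.StrP
  Cfsg.Agent.ChevalleyStructure.CoxeterGeomTypes Cfsg.Lie Cfsg.Agent.H116.RatB0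
open Cfsg.Agent.Nodes.RGDChev Cfsg.Agent.ChevalleyStructure.NPerm
open Cfsg Cfsg.Agent.H589.BD

universe u

section Par

variable {D : ChevalleyDatum} {l : ℕ} {M : CoxeterMatrix (Fin l)} (hp : IsType D l M) (K : Type u) [Field K]
  [Fintype K] {r f : ℕ} (hr : r.Prime) (hf : f ≠ 0) (hK : Fintype.card K = r ^ f) [CharP K r]

include hr hf hK in
/-- the Steinberg character from the indices of the maximal parabolic subgroups -/
theorem st_of_parOrd {g : ℕ} (hg : g ∣ r ^ f - 1)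
    (hT : g * Nat.card (D.diagonalSubgroup K) = (r ^ f - 1) ^ D.rank) {dS : List ℕ} {N : ℕ}
    (hdS : ∀ d ∈ dS, 0 < d ∧ d < N) (hS : ∃ b, g * Nat.card (D.group K) = r ^ b * pr (r ^ f) dS)
    {p m : ℕ} [hp' : Fact p.Prime] (hpr : p ≠ r) (hpm : (p : ℤ) ∣ E (r ^ f) m) (hm : m < N)
    (hall : ∀ k : Fin l, ∃ (J : List (Fin l)) (dJ : List ℕ), (∀ j, j ∈ J ↔ j ≠ k) ∧
      ((∀ (_ : Finite M.Group), RGD M.toCoxeterSystem hp.isCartan r (TT D K)
        (fun i => (⟨nn hp K i, nn_mem_group hp i⟩ : ↥(D.group K))) (XX D l K) →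
        (∀ i, Nat.card (XX D l K (sr i)) = r ^ f) →
        ParOrd M.toCoxeterSystem hp.isCartan (TT D K) (XX D l K) (r ^ f) l J dJ)) ∧
      (∀ d ∈ dJ, 0 < d ∧ d < N) ∧ (∀ m < N, cnt dJ m ≤ cnt dS m) ∧ cnt dJ m < cnt dS m) :
    ∃ χ : IrrCharacter ↥(D.group K), (∀ M : Ideal AlgInt, IsPModular p M → χ ∈ principalBlock M ↥(D.group K)) ∧
      charDegree (χ : ↥(D.group K) → ℂ) = ordProj[r] (Nat.card ↥(D.group K)) := by
  have : Fact r.Prime := ⟨hr⟩
  have hfin := finite_W hp M.toCoxeterSystem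
  have hR := rgd (K := K) hp M.toCoxeterSystem r
  have h2 := two_le hr hf
  have hc : ∀ i, Nat.card (XX D l K (sr i)) = r ^ f := fun i => by
    rw [card_XX hp K M.toCoxeterSystem (isRoot_sr _ _ i), Nat.card_eq_fintype_card, hK]
  refine st_of_index hR (GG_eq_top hp K _) hpr fun k => ?_
  obtain ⟨J, dJ, e1, e2, e3, e4, e5⟩ := hall k
  have h3 : ({j | j ≠ k} : Set (Fin l)) = {j | j ∈ J} := by
    ext j
    exact (e1 j).symm
  rw [h3]
  exact dvd_idx h2 hdS e3 (idx_of_parOrd hp K hr hf hK _ hg hT (fun d hd => (hdS d hd).1) hS (e2 hfin hR hc)) e4 hpm hm e5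

include hr hf hK in
/-- **The criterion for the untwisted groups.** -/
theorem pack_chev (h3r : r ≠ 3) {g : ℕ} (hg : g ∣ r ^ f - 1)
    (hT : g * Nat.card (D.diagonalSubgroup K) = (r ^ f - 1) ^ D.rank) {dS : List ℕ} {N b0 : ℕ}
    (hdS : ∀ d ∈ dS, 0 < d ∧ d < N) (hS : g * Nat.card (D.group K) = r ^ b0 * pr (r ^ f) dS)
    {m : ℕ} (hpm : (3 : ℤ) ∣ E (r ^ f) m) (hm : m < N)
    (hst : ∃ χ : IrrCharacter ↥(D.group K), (∀ M : Ideal AlgInt, IsPModular 3 M → χ ∈ principalBlock M ↥(D.group K)) ∧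
      charDegree (χ : ↥(D.group K) → ℂ) = ordProj[r] (Nat.card ↥(D.group K)))
    {J : List (Fin l)} {dJ : List ℕ}
    (hJ : ∀ (_ : Finite M.Group), RGD M.toCoxeterSystem hp.isCartan r (TT D K)
        (fun i => (⟨nn hp K i, nn_mem_group hp i⟩ : ↥(D.group K))) (XX D l K) →
        (∀ i, Nat.card (XX D l K (sr i)) = r ^ f) →
        ParOrd M.toCoxeterSystem hp.isCartan (TT D K) (XX D l K) (r ^ f) l J dJ)
    (e3 : ∀ d ∈ dJ, 0 < d ∧ d < N) (e4 : ∀ m < N, cnt dJ m ≤ cnt dS m) (e5 : cnt dJ m < cnt dS m)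
    {a b P : ℕ} (ha : ∀ i, i * pr (r ^ f) dJ = pr (r ^ f) dS → i ≤ a) (hb : Nat.card (Out ↥(D.group K)) ≤ b)
    (hP : ordProj[3] (pr (r ^ f) dS) ≤ P) (h : 3 * b ^ 5 * a ^ 2 * P ^ 3 < (r ^ b0) ^ 2) :
    Pack 3 ↥(D.group K) := by
  have : Fact r.Prime := ⟨hr⟩
  have hp3 : Fact (Nat.Prime 3) := ⟨Nat.prime_three⟩
  have hfin := finite_W hp M.toCoxeterSystem
  have hR := rgd (K := K) hp M.toCoxeterSystem r
  have h2 := two_le hr hf
  have hc : ∀ i, Nat.card (XX D l K (sr i)) = r ^ f := fun i => by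
    rw [card_XX hp K M.toCoxeterSystem (isRoot_sr _ _ i), Nat.card_eq_fintype_card, hK]
  have hidx := idx_of_parOrd hp K hr hf hK _ hg hT (fun d hd => (hdS d hd).1) ⟨b0, hS⟩ (hJ hfin hR hc)
  have h3 := dvd_idx h2 hdS e3 hidx e4 (p := 3) (by exact_mod_cast hpm) hm e5
  obtain ⟨χ, h4, h5⟩ := hst
  have hcard : 0 < Nat.card ↥(D.group K) := Nat.card_pos
  have hg0 : g ≠ 0 := by
    rintro rfl
    rw [zero_mul] at hT
    have : 0 < (r ^ f - 1) ^ D.rank := pow_pos (by omega) _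
    omega
  have hrg : ¬ r ∣ g := not_dvd_of_dvd hr hf hg
  have hrp : ¬ r ∣ pr (r ^ f) dS := not_dvd_pr hr hf _ (fun d hd => (hdS d hd).1)
  have hpr0 : pr (r ^ f) dS ≠ 0 := Num.pr_ne h2 _ fun d hd => (hdS d hd).1
  -- the degree
  have h6 : ordProj[r] (Nat.card ↥(D.group K)) = r ^ b0 := by
    have e := congrArg (fun n => n.factorization r) hS
    rw [Nat.factorization_mul hg0 hcard.ne', Nat.factorization_mul (pow_ne_zero _ hr.ne_zero) hpr0,
      Finsupp.add_apply, Finsupp.add_apply, Nat.factorization_eq_zero_of_not_dvd hrg,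
      Nat.factorization_eq_zero_of_not_dvd hrp, hr.factorization_pow, Finsupp.single_eq_same, zero_add, add_zero] at e
    rw [e]
  -- the three-part
  have h7 : ordProj[3] (Nat.card ↥(D.group K)) ≤ P := by
    refine le_trans ?_ hP
    apply Nat.pow_le_pow_right (by norm_num)
    have e := congrArg (fun n => n.factorization 3) hS
    rw [Nat.factorization_mul hg0 hcard.ne', Nat.factorization_mul (pow_ne_zero _ hr.ne_zero) hpr0,
      Finsupp.add_apply, Finsupp.add_apply] at e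
    have e2 : (r ^ b0).factorization 3 = 0 := by
      apply Nat.factorization_eq_zero_of_not_dvd
      intro h8
      exact h3r ((Nat.prime_dvd_prime_iff_eq Nat.prime_three hr).1 (Nat.prime_three.dvd_of_dvd_pow h8)).symm
    omega
  rw [h6] at h5
  exact pack_of_le χ h4 _ h3 (ha _ hidx) hb h7 h5 h

end Par

end Cfsg.Agent.H726.BD
end

-- part: H726/BD/E8
section
/-!
# S4932: `E₈(q)` at the prime 3 (helper726)
-/

set_option autoImplicit false
set_option linter.unusedSectionVars false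

namespace Cfsg.Agent.H726.BD

open CoxeterSystem Cfsg.Agent.ChevalleyStructure.CoxeterGeom Cfsg.Agent.Tits.Roots Cfsg.Agent.Tits.Core
  Cfsg.Agent.Tits.RootComb Cfsg.Agent.Nodes.Reps Cfsg.Agent.Nodes.BNOf
  Cfsg.Agent.Nodes.StabComb Cfsg.Agent.Nodes.Bruhat Cfsg.Agent.Nodes.LeviDec Cfsg.Agent.H35.Poin
  Cfsg.Agent.H35.PoinNum Cfsg.Agent.H35.ExcIdx Cfsg.Agent.H134.StrP
  Cfsg.Agent.ChevalleyStructure.CoxeterGeomTypes Cfsg.Lie Cfsg.Agent.H116.RatB0
open Cfsg.Agent.Nodes.RGDChev Cfsg.Agent.ChevalleyStructure.NPerm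
open Cfsg Cfsg.Agent.H589.BD

universe u

/-- `3 ∣ Φ₃(q)` for `q ≡ 1 mod 3` -/
theorem dvd_E3 {q : ℕ} (hq : 1 ≤ q) (h : 3 ∣ q - 1) : (3 : ℤ) ∣ E q 3 := by
  have h1 : (3 : ℤ) ∣ (q : ℤ) - 1 := by
    have := Int.natCast_dvd_natCast.2 h
    rwa [Nat.cast_sub hq] at this
  obtain ⟨x, hx⟩ := h1
  unfold E
  rw [Polynomial.cyclotomic_three]
  simp only [Polynomial.eval_add, Polynomial.eval_pow, Polynomial.eval_X, Polynomial.eval_one]
  have hx' : (q : ℤ) = 1 + 3 * x := by linarith only [hx]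
  rw [hx']
  exact ⟨1 + 3 * x + 3 * x ^ 2, by ring⟩

/-- `3 ∣ Φ₆(q)` for `q ≡ 2 mod 3` -/
theorem dvd_E6' {q : ℕ} (h : 3 ∣ q + 1) : (3 : ℤ) ∣ E q 6 := by
  have h1 : (3 : ℤ) ∣ (q : ℤ) + 1 := by
    have := Int.natCast_dvd_natCast.2 h
    push_cast at this
    exact this
  obtain ⟨x, hx⟩ := h1
  unfold E
  have h6 : Polynomial.cyclotomic 6 ℤ = Polynomial.X ^ 2 - Polynomial.X + 1 := Polynomial.cyclotomic_six ℤ
  rw [h6]
  simp only [Polynomial.eval_add, Polynomial.eval_sub, Polynomial.eval_pow, Polynomial.eval_X, Polynomial.eval_one]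
  have hx' : (q : ℤ) = -1 + 3 * x := by linarith
  rw [hx']
  exact ⟨1 - 3 * x + 3 * x ^ 2, by ring⟩

theorem mod_cases {K : Type u} [Field K] [Fintype K] (h3 : (3 : K) ≠ 0) :
    3 ∣ Fintype.card K - 1 ∨ 3 ∣ Fintype.card K + 1 := by
  have h : ¬ 3 ∣ Fintype.card K := by
    intro h
    apply h3
    obtain ⟨r, hr⟩ := CharP.exists K
    obtain ⟨n, hp, hn⟩ := FiniteField.card K r
    rw [hn] at h
    have h1 := (Nat.prime_dvd_prime_iff_eq Nat.prime_three hp).1 (Nat.prime_three.dvd_of_dvd_pow h)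
    have h2 : ((3 : ℕ) : K) = 0 := by rw [CharP.cast_eq_zero_iff K r, h1]
    exact_mod_cast h2
  omega

theorem le_pow_self' {r f : ℕ} (hr : 2 ≤ r) : 2 * f ≤ r ^ f := by
  rcases Nat.eq_zero_or_pos f with rfl | hf
  · simp
  have h1 : 2 ^ f ≤ r ^ f := Nat.pow_le_pow_left hr f
  have h2 : f ≤ 2 ^ (f - 1) := by
    have := Nat.lt_two_pow_self (n := f - 1)
    omega
  have h3 : 2 ^ f = 2 * 2 ^ (f - 1) := by
    obtain ⟨e, rfl⟩ := Nat.exists_eq_add_of_le hf
    rw [Nat.add_sub_cancel_left, pow_add, pow_one]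
  omega

/-- **`E₈(q)`, `p = 3`.** -/
theorem pack_E8 {K : Type u} [Field K] [Fintype K] (h3 : (3 : K) ≠ 0) :
    Pack 3 ↥(chevE8.group K) := by
  have : Fact (Nat.Prime 3) := ⟨Nat.prime_three⟩
  obtain ⟨r, f, _, hr, hf, hK⟩ := exists_pow K
  have : Fact r.Prime := ⟨hr⟩
  have hmod := mod_cases h3
  rw [hK] at hmod
  have h3K : ((3 : ℕ) : K) ≠ 0 := by exact_mod_cast h3
  have hr3 : r ≠ 3 := (ne_of_cast K h3K).symm
  have h2 := two_le hr hf
  have hT : 1 * Nat.card (chevE8.diagonalSubgroup K) = (r ^ f - 1) ^ chevE8.rank := by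
    rw [← hK]; exact Cfsg.Agent.S1035.result rfl (chevE8, 1) (by simp only [_root_.List.mem_cons, _root_.Prod.mk.injEq, _root_.and_true, _root_.List.not_mem_nil, _root_.or_false, _root_.true_or, _root_.or_true])
  have hS : 1 * Nat.card (chevE8.group K) = r ^ (f * 120) * pr (r ^ f) [2, 8, 12, 14, 18, 20, 24, 30] := by
    have h3 := Cfsg.Agent.S1065.result hK
    rw [pow_mul]
    simp only [pr_cons, pr_nil]
    rw [one_mul, h3]
    ring
  have hout : Nat.card (Out ↥(chevE8.group K)) ≤ r ^ f := by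
    rw [H70.OutE.card_out_E8 hK]
    have := le_pow_self' (f := f) hr.two_le
    omega
  have hnum : ∀ P : ℕ, P ≤ (2 * r ^ f) ^ 8 * 243 →
      3 * (r ^ f) ^ 5 * (2 ^ 8 * (r ^ f) ^ 57) ^ 2 * P ^ 3 < (r ^ (f * 120)) ^ 2 := by
    intro P hP
    rw [pow_mul]
    obtain ⟨q, hq⟩ : ∃ q, q = r ^ f := ⟨_, rfl⟩
    rw [← hq] at hP h2 ⊢
    calc 3 * q ^ 5 * (2 ^ 8 * q ^ 57) ^ 2 * P ^ 3 ≤ 3 * q ^ 5 * (2 ^ 8 * q ^ 57) ^ 2 * ((2 * q) ^ 8 * 243) ^ 3 := by
          gcongr
      _ = (3 * 2 ^ 40 * 243 ^ 3) * q ^ 143 := by ring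
      _ < 2 ^ 97 * q ^ 143 := by
          have : 0 < q ^ 143 := by (clear * - h2; positivity)
          exact Nat.mul_lt_mul_of_pos_right (by norm_num) this
      _ ≤ q ^ 97 * q ^ 143 := by gcongr
      _ = (q ^ 120) ^ 2 := by ring
  rcases hmod with h | h
  · refine pack_chev hpE8 K hr hf hK hr3 (g := 1) (one_dvd _) hT (dS := [2, 8, 12, 14, 18, 20, 24, 30]) (N := 31)
      (by decide) hS (m := 3) (dvd_E3 (by omega) h) (by norm_num) ?_ (fun _ R hs => oE8_0123456 R h2 hs) (by decide)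
      (by decide +kernel) (by decide) (fun i hi => Num.idx_le h2 (by decide) hi (c := 57) (by decide)) hout
      (P := (r ^ f - 1) ^ 8 * 243) ?_ (hnum _ ?_)
    · refine st_three_one hpE8 CoxeterMatrix.E₈.toCoxeterSystem ?_ H541.RatB0.chk_E8.1
      rw [Nat.card_eq_fintype_card, hK]; exact h
    · rw [Num.fac_pr_one h2 h _ (by decide)]
      have e1 : ([2, 8, 12, 14, 18, 20, 24, 30].map Num.v3).sum = 5 := by decide
      rw [e1, pow_add, mul_comm, pow_mul, mul_comm]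
      simp only [List.length_cons, List.length_nil]
      refine Nat.mul_le_mul ?_ (by norm_num)
      rw [← pow_mul, mul_comm, pow_mul]
      exact Nat.pow_le_pow_left (Nat.ordProj_le 3 (by omega)) _
    · have : r ^ f - 1 ≤ 2 * r ^ f := by omega
      gcongr
  · refine pack_chev hpE8 K hr hf hK hr3 (g := 1) (one_dvd _) hT (dS := [2, 8, 12, 14, 18, 20, 24, 30]) (N := 31)
      (by decide) hS (m := 6) (dvd_E6' h) (by norm_num) ?_ (fun _ R hs => oE8_0123456 R h2 hs) (by decide)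
      (by decide +kernel) (by decide) (fun i hi => Num.idx_le h2 (by decide) hi (c := 57) (by decide)) hout
      (P := (r ^ f + 1) ^ 8 * 243) ?_ (hnum _ ?_)
    · refine st_of_parOrd hpE8 K hr hf hK (g := 1) (one_dvd _) hT (dS := [2, 8, 12, 14, 18, 20, 24, 30]) (N := 31)
        (by decide) ⟨_, hS⟩ (p := 3) (Ne.symm hr3) (m := 6) (dvd_E6' h) (by norm_num) ?_
      intro k
      fin_cases k
      · exact ⟨_, _, by decide, fun _ R hs => oE8_1234567 R h2 hs, by decide, by decide +kernel, by decide⟩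
      · exact ⟨_, _, by decide, fun _ R hs => oE8_0234567 R h2 hs, by decide, by decide +kernel, by decide⟩
      · exact ⟨_, _, by decide, fun _ R hs => oE8_0134567 R h2 hs, by decide, by decide +kernel, by decide⟩
      · exact ⟨_, _, by decide, fun _ R hs => oE8_0124567 R h2 hs, by decide, by decide +kernel, by decide⟩
      · exact ⟨_, _, by decide, fun _ R hs => oE8_0123567 R h2 hs, by decide, by decide +kernel, by decide⟩
      · exact ⟨_, _, by decide, fun _ R hs => oE8_0123467 R h2 hs, by decide, by decide +kernel, by decide⟩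
      · exact ⟨_, _, by decide, fun _ R hs => oE8_0123457 R h2 hs, by decide, by decide +kernel, by decide⟩
      · exact ⟨_, _, by decide, fun _ R hs => oE8_0123456 R h2 hs, by decide, by decide +kernel, by decide⟩
    · rw [Num.fac_pr_two h2 h _ (by decide)]
      have e1 : (([2, 8, 12, 14, 18, 20, 24, 30].filter fun d => d % 2 = 0).map Num.v3).sum = 5 := by decide
      have e2 : ([2, 8, 12, 14, 18, 20, 24, 30].filter fun d => d % 2 = 0).length = 8 := by decide
      rw [e1, e2, pow_add, mul_comm, pow_mul, mul_comm]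
      refine Nat.mul_le_mul ?_ (by norm_num)
      rw [← pow_mul, mul_comm, pow_mul]
      exact Nat.pow_le_pow_left (Nat.ordProj_le 3 (by omega)) _
    · have : r ^ f + 1 ≤ 2 * r ^ f := by omega
      gcongr

end Cfsg.Agent.H726.BD
end
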